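import Groth.Agent.Lib.FlatBlow1.AlgCentre
import Groth.Agent.Lib.GenFree.Presentation
import Groth.Prelude.Def_BlowUp2
import Mathlib.RingTheory.Valuation.ValuationRing

/-!
# Flattening along a valuation ring dominating a local domain
-/

set_option autoImplicit false
set_option backward.isDefEq.respectTransparency.types false
set_option backward.isDefEq.respectTransparency false
universe u v

open TensorProduct Function
open scoped Classical

namespace GrothLib.FlatVal13

open GrothLib GrothLib.FlatBlow1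

attribute [local instance] Algebra.TensorProduct.rightAlgebra

/-- The quotient by the torsion of a retract is a retract of the quotient by the torsion. -/
theorem retract_tors {R B X Y : Type u} [CommRing R] [CommRing B] [Algebra R B]
    [AddCommGroup X] [Module B X] [Module R X] [IsScalarTower R B X]
    [AddCommGroup Y] [Module B Y] [Module R Y] [IsScalarTower R B Y]
    (e : B) (i : X →ₗ[B] Y) (p : Y →ₗ[B] X) (hpi : ∀ x, p (i x) = x)
    [Module.Flat R (Y ⧸ FlatCA.powTorsion B e Y)]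
    [Module.FinitePresentation B (Y ⧸ FlatCA.powTorsion B e Y)] :
    Module.Flat R (X ⧸ FlatCA.powTorsion B e X) ∧
      Module.FinitePresentation B (X ⧸ FlatCA.powTorsion B e X) := by
  let TX := FlatCA.powTorsion B e X
  let TY := FlatCA.powTorsion B e Y
  have hi : TX ≤ TY.comap i := fun x hx => by
    obtain ⟨n, hn⟩ := (Fitting.mem_powTorsion_iff _ _).1 hx
    exact (Fitting.mem_powTorsion_iff _ _).2 ⟨n, by rw [← map_smul, hn, map_zero]⟩
  have hp : TY ≤ TX.comap p := fun x hx => by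
    obtain ⟨n, hn⟩ := (Fitting.mem_powTorsion_iff _ _).1 hx
    exact (Fitting.mem_powTorsion_iff _ _).2 ⟨n, by rw [← map_smul, hn, map_zero]⟩
  let i' : (X ⧸ TX) →ₗ[B] Y ⧸ TY := TX.mapQ TY i hi
  let p' : (Y ⧸ TY) →ₗ[B] X ⧸ TX := TY.mapQ TX p hp
  have hpi' : ∀ x, p' (i' x) = x := fun x => by
    obtain ⟨x, rfl⟩ := Submodule.Quotient.mk_surjective _ x
    show Submodule.Quotient.mk (p (i x)) = _
    rw [hpi]
  refine ⟨Module.Flat.of_retract (i'.restrictScalars R) (p'.restrictScalars R)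
    (LinearMap.ext fun x => hpi' x), ?_⟩
  have hk : LinearMap.ker p' = LinearMap.range (LinearMap.id - i' ∘ₗ p') := by
    ext y
    rw [LinearMap.mem_ker, LinearMap.mem_range]
    constructor
    · intro hy
      exact ⟨y, by rw [LinearMap.sub_apply, LinearMap.id_apply, LinearMap.comp_apply, hy, map_zero, sub_zero]⟩
    · rintro ⟨y, rfl⟩
      rw [LinearMap.sub_apply, LinearMap.id_apply, LinearMap.comp_apply, map_sub, hpi', sub_self]
  exact Module.finitePresentation_of_surjective p' (fun x => ⟨_, hpi' x⟩)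
    (by rw [hk, LinearMap.range_eq_map]; exact Submodule.FG.map _ Module.Finite.fg_top)

set_option maxHeartbeats 1600000 in
/-- A good chart at a valuation for a finite module which is flat and finitely presented away from `f`. -/
theorem exists_pair {R : Type u} [CommRing R] {Γ₀ : Type v} [LinearOrderedCommGroupWithZero Γ₀] (D : Datum R Γ₀)
    (hT : D.T = {D.f}) {P N : Type u} [CommRing P] [Algebra R P] [Algebra.FinitePresentation R P]
    [AddCommGroup N] [Module P N] [Module R N] [IsScalarTower R P N] [Module.Finite P N]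
    [Module.Flat R (Localization.Away D.f ⊗[R] N)]
    (hfp : Module.FinitePresentation (Localization.Away (algebraMap R P D.f))
      (LocalizedModule (Submonoid.powers (algebraMap R P D.f)) N)) :
    ∃ (L : Finset R) (b : R), b ∈ L ∧ (∀ a ∈ L, D.v a ≤ D.v b) ∧ D.v b ≠ 0 ∧
      ∀ (R' : Type u) [CommRing R'] [Algebra R R'] (e : R'), e ∈ nonZeroDivisors R' →
        algebraMap R R' D.f ∣ e → (∀ a ∈ L, algebraMap R R' b ∣ algebraMap R R' a) →
        ∀ (B'' M'' : Type u) [CommRing B''] [Algebra P B''] [Algebra R' B''] [Algebra R B''] [IsScalarTower R R' B'']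
          [IsScalarTower R P B''] [Algebra.IsPushout R R' P B''] [AddCommGroup M''] [Module B'' M''] [Module P M'']
          [IsScalarTower P B'' M''] [Module R' M''] [IsScalarTower R' B'' M''] (l : N →ₗ[P] M''),
          IsBaseChange B'' l →
            Module.Flat R' (M'' ⧸ FlatCA.powTorsion B'' (algebraMap R' B'' e) M'') ∧
              Module.FinitePresentation B'' (M'' ⧸ FlatCA.powTorsion B'' (algebraMap R' B'' e) M'') := by
  let g := algebraMap R P D.f
  obtain ⟨M₀, _, _, _, π, hπ, hker⟩ := GrothLib.BlowFree1.exists_cover_of_finset {g} (M := N) (fun g' hg' => by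
    rw [Finset.mem_singleton] at hg'
    subst hg'
    exact ⟨Localization.Away g, LocalizedModule (Submonoid.powers g) N, inferInstance, inferInstance, inferInstance,
      inferInstance, inferInstance, inferInstance, inferInstance, LocalizedModule.mkLinearMap _ N, inferInstance, hfp⟩)
  letI : Module R M₀ := Module.compHom M₀ (algebraMap R P)
  haveI : IsScalarTower R P M₀ := IsScalarTower.of_algebraMap_smul fun _ _ => rfl
  have hker' : ∀ y, π y = 0 → ∃ k : ℕ, D.f ^ k • y = 0 := fun y hy => by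
    obtain ⟨k, hk⟩ := hker g (Finset.mem_singleton_self g) y hy
    exact ⟨k, by rw [← algebraMap_smul P (D.f ^ k) y, map_pow]; exact hk⟩
  let Rf := Localization.Away D.f
  let Φ : Rf ⊗[R] M₀ →ₗ[R] Rf ⊗[R] N := (π.restrictScalars R).lTensor Rf
  have hΦ : Bijective Φ := by
    refine ⟨?_, LinearMap.lTensor_surjective Rf (g := π.restrictScalars R) hπ⟩
    rw [injective_iff_map_eq_zero]
    intro x hx
    let j0 : M₀ →ₗ[R] Rf ⊗[R] M₀ := TensorProduct.mk R Rf M₀ 1
    let jN : N →ₗ[R] Rf ⊗[R] N := TensorProduct.mk R Rf N 1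
    haveI : IsLocalizedModule (Submonoid.powers D.f) j0 :=
      (isLocalizedModule_iff_isBaseChange (Submonoid.powers D.f) Rf j0).2 (TensorProduct.isBaseChange R M₀ Rf)
    haveI : IsLocalizedModule (Submonoid.powers D.f) jN :=
      (isLocalizedModule_iff_isBaseChange (Submonoid.powers D.f) Rf jN).2 (TensorProduct.isBaseChange R N Rf)
    obtain ⟨⟨m, s⟩, hs⟩ := IsLocalizedModule.surj (Submonoid.powers D.f) j0 x
    have h0 : jN (π m) = 0 := by
      show Φ (j0 m) = 0
      rw [← hs, Submonoid.smul_def, map_smul, hx, smul_zero]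
    obtain ⟨⟨_, k, rfl⟩, hk⟩ := (IsLocalizedModule.eq_zero_iff (Submonoid.powers D.f) jN).1 h0
    obtain ⟨j, hj⟩ := hker' (D.f ^ k • m) (by rw [LinearMap.map_smul_of_tower]; exact hk)
    refine IsLocalizedModule.smul_injective j0 s ?_
    show s • x = s • 0
    rw [smul_zero, hs]
    refine (IsLocalizedModule.eq_zero_iff (Submonoid.powers D.f) j0).2 ⟨⟨D.f ^ (j + k), j + k, rfl⟩, ?_⟩
    show D.f ^ (j + k) • m = 0
    rw [pow_add, mul_smul, hj]
  haveI : Module.Flat R (Rf ⊗[R] M₀) := Module.Flat.of_linearEquiv (LinearEquiv.ofBijective Φ hΦ)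
  obtain ⟨L, b, hbL, hmax, hb0, -, hgood⟩ := exists_good_pair D (B := P) (M₀ := M₀)
  refine ⟨L, b, hbL, hmax, hb0, ?_⟩
  intro R' _ _ e he hfe hdiv B'' M'' _ _ _ _ _ _ _ _ _ _ _ _ _ l hl
  haveI : Module.FinitePresentation B'' (B'' ⊗[P] M₀) :=
    FinitePresentation.of_isBaseChange _ (TensorProduct.isBaseChange P M₀ B'')
  obtain ⟨hfl, hfg⟩ := hgood R' e he (by
    rw [hT, Finset.coe_singleton, Ideal.map_span, Set.image_singleton]
    exact Ideal.mem_span_singleton.2 hfe) hdiv B'' (B'' ⊗[P] M₀) (TensorProduct.mk P B'' M₀ 1)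
    (TensorProduct.isBaseChange P M₀ B'')
  haveI := hfl
  let q : B'' ⊗[P] M₀ →ₗ[B''] M'' := hl.equiv.toLinearMap ∘ₗ π.baseChange B''
  refine transfer_cover (R'' := R') (algebraMap R' B'' e) q
    (hl.equiv.surjective.comp (LinearMap.lTensor_surjective B'' hπ)) ?_ hfg
  intro y hy
  have hy' : π.baseChange B'' y = 0 := hl.equiv.map_eq_zero_iff.1 hy
  obtain ⟨z, rfl⟩ := ((lTensor_exact B'' (LinearMap.exact_subtype_ker_map π) hπ) y).1 hy'
  clear hy hy'
  induction z using TensorProduct.induction_on with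
  | zero => rw [map_zero]; exact zero_mem _
  | add v w hv hw => rw [map_add]; exact add_mem hv hw
  | tmul t z =>
    obtain ⟨k, hk⟩ := hker' z.1 z.2
    obtain ⟨c, rfl⟩ := hfe
    refine (Fitting.mem_powTorsion_iff _ _).2 ⟨k, ?_⟩
    rw [LinearMap.lTensor_tmul, Submodule.subtype_apply, map_mul, mul_pow,
      mul_comm, mul_smul, ← IsScalarTower.algebraMap_apply R R' B'', ← map_pow]
    have h0 : algebraMap R B'' (D.f ^ k) • (t ⊗ₜ[P] (z : M₀) : B'' ⊗[P] M₀) = 0 := by
      rw [IsScalarTower.algebraMap_apply R P B'', algebraMap_smul, ← TensorProduct.tmul_smul]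
      rw [algebraMap_smul, hk, TensorProduct.tmul_zero]
    rw [← map_pow (algebraMap R B''), h0, smul_zero]

set_option maxHeartbeats 1000000 in
/-- The strict transform of the algebra. -/
theorem algebra_part {R R₁ P S M : Type u} [CommRing R] [CommRing R₁] [Algebra R R₁] [CommRing P] [Algebra R P]
    [Algebra.FinitePresentation R P] [CommRing S] [Algebra R S] [Algebra P S] [IsScalarTower R P S]
    (hσ : Surjective (algebraMap P S)) [AddCommGroup M] [Module P M] (a : R)
    [Module.Flat R₁ (((R₁ ⊗[R] P) ⊗[P] (S × M)) ⧸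
      FlatCA.powTorsion (R₁ ⊗[R] P) (algebraMap R₁ (R₁ ⊗[R] P) (algebraMap R R₁ a)) ((R₁ ⊗[R] P) ⊗[P] (S × M)))]
    [Module.FinitePresentation (R₁ ⊗[R] P) (((R₁ ⊗[R] P) ⊗[P] (S × M)) ⧸
      FlatCA.powTorsion (R₁ ⊗[R] P) (algebraMap R₁ (R₁ ⊗[R] P) (algebraMap R R₁ a)) ((R₁ ⊗[R] P) ⊗[P] (S × M)))] :
    Module.Flat R₁ ((R₁ ⊗[R] S) ⧸ FlatCA.powTorsion (R₁ ⊗[R] S) (algebraMap R (R₁ ⊗[R] S) a) (R₁ ⊗[R] S)) ∧
      Algebra.FinitePresentation R₁
        ((R₁ ⊗[R] S) ⧸ FlatCA.powTorsion (R₁ ⊗[R] S) (algebraMap R (R₁ ⊗[R] S) a) (R₁ ⊗[R] S)) := by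
  let B'' := R₁ ⊗[R] P
  let e₁ := algebraMap R R₁ a
  let N'' := B'' ⊗[P] (S × M)
  let S₁ := R₁ ⊗[R] S
  letI : Algebra B'' S₁ := (Algebra.TensorProduct.map (AlgHom.id R₁ R₁) (IsScalarTower.toAlgHom R P S)).toRingHom.toAlgebra
  haveI : IsScalarTower R₁ B'' S₁ := IsScalarTower.of_algebraMap_eq (R := R₁) (S := B'') (A := S₁) fun c => by
    show _ = Algebra.TensorProduct.map _ _ (c ⊗ₜ[R] (1 : P))
    rw [Algebra.TensorProduct.map_tmul, map_one]
    rfl
  letI : Algebra P S₁ := ((algebraMap S S₁).comp (algebraMap P S)).toAlgebra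
  haveI : IsScalarTower P S S₁ := IsScalarTower.of_algebraMap_eq' rfl
  haveI : IsScalarTower P B'' S₁ := IsScalarTower.of_algebraMap_eq (R := P) (S := B'') (A := S₁) fun c => by
    show _ = Algebra.TensorProduct.map _ _ ((1 : R₁) ⊗ₜ[R] c)
    rw [Algebra.TensorProduct.map_tmul, map_one]
    rfl
  haveI : IsScalarTower R P S₁ := IsScalarTower.of_algebraMap_eq fun c => by
    rw [IsScalarTower.algebraMap_apply P S S₁, ← IsScalarTower.algebraMap_apply R P S,
      ← IsScalarTower.algebraMap_apply R S S₁]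
  haveI : IsScalarTower R B'' S₁ := IsScalarTower.of_algebraMap_eq fun c => by
    rw [IsScalarTower.algebraMap_apply R R₁ B'', ← IsScalarTower.algebraMap_apply R₁ B'' S₁,
      ← IsScalarTower.algebraMap_apply R R₁ S₁]
  haveI : Algebra.IsPushout R S R₁ S₁ := Algebra.IsPushout.symm inferInstance
  haveI : Algebra.IsPushout P S B'' S₁ := (Algebra.IsPushout.comp_iff R P R₁ B'' (T := S) (T' := S₁)).1 inferInstance
  have hbc : IsBaseChange B'' (IsScalarTower.toAlgHom P S S₁).toLinearMap :=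
    (Algebra.IsPushout.symm (inferInstance : Algebra.IsPushout P S B'' S₁)).out
  let eS : B'' ⊗[P] S ≃ₗ[B''] S₁ := hbc.equiv
  let iS : S₁ →ₗ[B''] N'' := ((LinearMap.inl P S M).baseChange B'') ∘ₗ eS.symm.toLinearMap
  let pS : N'' →ₗ[B''] S₁ := eS.toLinearMap ∘ₗ (LinearMap.fst P S M).baseChange B''
  have hpiS : ∀ x, pS (iS x) = x := fun x => by
    show eS ((LinearMap.fst P S M).baseChange B'' ((LinearMap.inl P S M).baseChange B'' (eS.symm x))) = x
    rw [← LinearMap.comp_apply, ← LinearMap.baseChange_comp, LinearMap.fst_comp_inl, LinearMap.baseChange_id]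
    exact eS.apply_symm_apply x
  obtain ⟨hSfl, hSfp⟩ := retract_tors (R := R₁) (algebraMap R₁ B'' e₁) iS pS hpiS
  let J := FlatCA.powTorsion S₁ (algebraMap R S₁ a) S₁
  have hel : algebraMap B'' S₁ (algebraMap R₁ B'' e₁) = algebraMap R S₁ a := by
    rw [← IsScalarTower.algebraMap_apply R₁ B'' S₁, ← IsScalarTower.algebraMap_apply R R₁ S₁]
  let q : S₁ →ₗ[B''] S₁ ⧸ J := (IsScalarTower.toAlgHom B'' S₁ (S₁ ⧸ J)).toLinearMap
  have hq : Surjective q := Ideal.Quotient.mk_surjective
  have hker : LinearMap.ker q = FlatCA.powTorsion B'' (algebraMap R₁ B'' e₁) S₁ := by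
    ext y
    rw [LinearMap.mem_ker, Fitting.mem_powTorsion_iff]
    show Ideal.Quotient.mk J y = 0 ↔ _
    rw [Ideal.Quotient.eq_zero_iff_mem, Fitting.mem_powTorsion_iff]
    refine exists_congr fun k => ?_
    rw [Algebra.smul_def, Algebra.smul_def, map_pow, map_pow, hel, Algebra.algebraMap_self_apply]
  let E := (Submodule.quotEquivOfEq _ _ hker.symm).trans (LinearMap.quotKerEquivOfSurjective q hq)
  refine ⟨Module.Flat.of_linearEquiv (E.restrictScalars R₁).symm, ?_⟩
  haveI := hSfp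
  haveI : Module.FinitePresentation B'' (S₁ ⧸ J) := Module.FinitePresentation.of_equiv E
  let φ : B'' →ₗ[B''] S₁ ⧸ J := Algebra.linearMap B'' (S₁ ⧸ J)
  have hφ : Surjective φ := fun z => by
    obtain ⟨x, rfl⟩ := hq z
    refine hbc.inductionOn x (fun x : S₁ => ∃ a, φ a = q x) ⟨0, by simp⟩ (fun x => ?_) (fun c x hx => ?_)
      fun x y hx hy => ?_
    · obtain ⟨p, rfl⟩ := hσ x
      refine ⟨algebraMap P B'' p, ?_⟩
      show algebraMap B'' (S₁ ⧸ J) (algebraMap P B'' p) = Ideal.Quotient.mk J (algebraMap S S₁ (algebraMap P S p))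
      rw [IsScalarTower.algebraMap_apply B'' S₁ (S₁ ⧸ J), ← IsScalarTower.algebraMap_apply P B'' S₁,
        IsScalarTower.algebraMap_apply P S S₁]
      rfl
    · obtain ⟨a, ha⟩ := hx
      exact ⟨c • a, by rw [map_smul, map_smul, ha]⟩
    · obtain ⟨a, ha⟩ := hx
      obtain ⟨a', ha'⟩ := hy
      exact ⟨a + a', by rw [map_add, map_add, ha, ha']⟩
  exact Algebra.FinitePresentation.of_surjective (f := IsScalarTower.toAlgHom R₁ B'' (S₁ ⧸ J)) hφ
    (Module.FinitePresentation.fg_ker φ hφ)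

set_option maxHeartbeats 1000000 in
/-- The strict transform of the module. -/
theorem module_part {R R₁ P S M : Type u} [CommRing R] [CommRing R₁] [Algebra R R₁] [CommRing P] [Algebra R P]
    [AddCommGroup S] [Module P S] [AddCommGroup M] [Module P M] [Module R M] [IsScalarTower R P M] (a : R)
    [Module.Flat R₁ (((R₁ ⊗[R] P) ⊗[P] (S × M)) ⧸
      FlatCA.powTorsion (R₁ ⊗[R] P) (algebraMap R₁ (R₁ ⊗[R] P) (algebraMap R R₁ a)) ((R₁ ⊗[R] P) ⊗[P] (S × M)))]
    [Module.FinitePresentation (R₁ ⊗[R] P) (((R₁ ⊗[R] P) ⊗[P] (S × M)) ⧸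
      FlatCA.powTorsion (R₁ ⊗[R] P) (algebraMap R₁ (R₁ ⊗[R] P) (algebraMap R R₁ a)) ((R₁ ⊗[R] P) ⊗[P] (S × M)))] :
    Module.Flat R₁ ((R₁ ⊗[R] M) ⧸ FlatCA.powTorsion R₁ (algebraMap R R₁ a) (R₁ ⊗[R] M)) := by
  let B'' := R₁ ⊗[R] P
  let e₁ := algebraMap R R₁ a
  let N'' := B'' ⊗[P] (S × M)
  let M'' := B'' ⊗[P] M
  let iM : M'' →ₗ[B''] N'' := (LinearMap.inr P S M).baseChange B''
  let pM : N'' →ₗ[B''] M'' := (LinearMap.snd P S M).baseChange B''
  have hpiM : ∀ x, pM (iM x) = x := fun x => by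
    show (LinearMap.snd P S M).baseChange B'' ((LinearMap.inr P S M).baseChange B'' x) = x
    rw [← LinearMap.comp_apply, ← LinearMap.baseChange_comp, LinearMap.snd_comp_inr, LinearMap.baseChange_id]
    rfl
  have hM := (retract_tors (R := R₁) (algebraMap R₁ B'' e₁) iM pM hpiM).1
  let E₂ : M'' ≃ₗ[R₁] R₁ ⊗[R] M := Algebra.IsPushout.cancelBaseChange R R₁ P B'' M
  haveI := hM
  refine Module.Flat.of_linearEquiv (R := R₁) (M := M'' ⧸ FlatCA.powTorsion B'' (algebraMap R₁ B'' e₁) M'') ?_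
  let q₂ : M'' →ₗ[R₁] (R₁ ⊗[R] M) ⧸ FlatCA.powTorsion R₁ e₁ (R₁ ⊗[R] M) :=
    (FlatCA.powTorsion R₁ e₁ (R₁ ⊗[R] M)).mkQ ∘ₗ E₂.toLinearMap
  have hk₂ : LinearMap.ker q₂ = (FlatCA.powTorsion B'' (algebraMap R₁ B'' e₁) M'').restrictScalars R₁ := by
    ext x
    rw [LinearMap.mem_ker, Submodule.restrictScalars_mem, Fitting.mem_powTorsion_iff]
    show Submodule.Quotient.mk (E₂ x) = 0 ↔ _
    rw [Submodule.Quotient.mk_eq_zero, Fitting.mem_powTorsion_iff]
    refine exists_congr fun k => ?_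
    rw [← map_pow (algebraMap R₁ B''), algebraMap_smul B'' (e₁ ^ k) x, ← map_smul E₂ (e₁ ^ k) x]
    exact E₂.map_eq_zero_iff
  exact ((Submodule.quotEquivOfEq _ _ hk₂).trans (Submodule.Quotient.restrictScalarsEquiv R₁ _)).symm.trans
    (LinearMap.quotKerEquivOfSurjective q₂ ((Submodule.mkQ_surjective _).comp E₂.surjective)) |>.symm


set_option maxHeartbeats 1000000 in
/-- The chart dominates the valuation ring and divides the numerators. -/
theorem chart_part (R K : Type u) [CommRing R] [IsDomain R] [IsLocalRing R] [Field K]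
    [Algebra R K] [IsFractionRing R K] (A : Type u) [CommRing A] [IsDomain A] [IsLocalRing A] [Algebra A K]
    [IsFractionRing A K] [Algebra R A] [IsScalarTower R A K] [IsLocalHom (algebraMap R A)]
    (f b : R) (L : Finset R) (I : Ideal R) (hL : ∀ z ∈ L, f * z ∈ I) (hf0 : f ≠ 0) (hbz : b ≠ 0)
    (hI : ∀ x ∈ I, ∃ y : A, algebraMap A K y * algebraMap R K (f * b) = algebraMap R K x)
    (R₁ : Type u) [CommRing R₁] [Algebra R R₁] (ε : R₁ ≃ₐ[R] ↥(BlowUp.affineAlgebra R I (f * b))) :
    (IsLocalRing.maximalIdeal R).map (algebraMap R R₁) ≠ ⊤ ∧ algebraMap R R₁ (f * b) ∈ nonZeroDivisors R₁ ∧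
      ∀ z ∈ L, algebraMap R R₁ b ∣ algebraMap R R₁ z := by
  let Q := Localization.Away (f * b)
  have hinjQ : Injective (algebraMap R Q) :=
    IsLocalization.injective Q (Submonoid.powers_le.2 (mem_nonZeroDivisors_of_ne_zero (mul_ne_zero hf0 hbz)))
  haveI : IsDomain Q := IsLocalization.isDomain_localization
    (Submonoid.powers_le.2 (mem_nonZeroDivisors_of_ne_zero (mul_ne_zero hf0 hbz)))
  haveI : IsDomain R₁ := ε.toRingEquiv.toMulEquiv.isDomain
  have hane : algebraMap R R₁ (f * b) ≠ 0 := fun h => by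
    have h1 : algebraMap R (BlowUp.affineAlgebra R I (f * b)) (f * b) = 0 := by rw [← ε.commutes, h, map_zero]
    exact mul_ne_zero hf0 hbz (hinjQ (by rw [map_zero]; exact congrArg Subtype.val h1))
  have hdiv : ∀ z ∈ L, algebraMap R R₁ b ∣ algebraMap R R₁ z := by
    intro z hz
    let q : BlowUp.affineAlgebra R I (f * b) := ⟨IsLocalization.mk' Q (f * z) ⟨f * b, Submonoid.mem_powers _⟩,
      Algebra.subset_adjoin ⟨f * z, hL z hz, rfl⟩⟩
    refine ⟨ε.symm q, ε.injective ?_⟩
    rw [map_mul, ε.apply_symm_apply, ε.commutes, ε.commutes]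
    refine Subtype.ext ?_
    show algebraMap R Q z = algebraMap R Q b * IsLocalization.mk' Q (f * z) _
    have hf' : algebraMap R Q f ≠ 0 := (map_ne_zero_iff _ hinjQ).2 hf0
    refine mul_left_cancel₀ hf' ?_
    rw [← mul_assoc, ← map_mul, ← map_mul]
    exact (IsLocalization.mk'_spec' Q (f * z) (⟨f * b, Submonoid.mem_powers _⟩ : Submonoid.powers (f * b))).symm
  refine ⟨?_, mem_nonZeroDivisors_of_ne_zero hane, hdiv⟩
  · -- the chart maps to `A`
    intro htop
    have hu : IsUnit (algebraMap R K (f * b)) :=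
      ((map_ne_zero_iff _ (IsFractionRing.injective R K)).2 (mul_ne_zero hf0 hbz)).isUnit
    let φ : Q →+* K := IsLocalization.Away.lift (f * b) (g := algebraMap R K) hu
    let V : Subring K := (algebraMap A K).range
    have hV : ∀ x ∈ BlowUp.affineAlgebra R I (f * b), φ x ∈ V := by
      intro x hx
      induction hx using Algebra.adjoin_induction with
      | mem q hq =>
        obtain ⟨z, hz, rfl⟩ := hq
        obtain ⟨y, hy⟩ := hI z hz
        refine ⟨y, ?_⟩
        have h1 := congrArg φ (IsLocalization.mk'_spec Q z (⟨f * b, Submonoid.mem_powers _⟩ : Submonoid.powers (f * b)))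
        rw [map_mul] at h1
        simp only [φ, IsLocalization.Away.lift_eq] at h1 ⊢
        refine mul_right_cancel₀ hu.ne_zero ?_
        exact hy.trans h1.symm
      | algebraMap r =>
        refine ⟨algebraMap R A r, ?_⟩
        show _ = φ (algebraMap R Q r)
        rw [IsLocalization.Away.lift_eq]
        exact (IsScalarTower.algebraMap_apply R A K r).symm
      | add x y _ _ hx hy => rw [map_add]; exact add_mem hx hy
      | mul x y _ _ hx hy => rw [map_mul]; exact mul_mem hx hy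
    let eA : A ≃+* V := RingEquiv.ofBijective (algebraMap A K).rangeRestrict
      ⟨fun _ _ h => IsFractionRing.injective A K (congrArg Subtype.val h), (algebraMap A K).rangeRestrict_surjective⟩
    let ψ : R₁ →+* A := eA.symm.toRingHom.comp
      ((φ.comp ((BlowUp.affineAlgebra R I (f * b)).val.toRingHom.comp ε.toRingEquiv.toRingHom)).codRestrict V
        fun x => hV _ (ε x).2)
    have hψ : ψ.comp (algebraMap R R₁) = algebraMap R A := RingHom.ext fun r => eA.injective (Subtype.ext (by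
      show ((eA (eA.symm _) : V) : K) = algebraMap A K (algebraMap R A r)
      rw [RingEquiv.apply_symm_apply]
      show φ (ε (algebraMap R R₁ r)).1 = _
      rw [ε.commutes]
      show φ (algebraMap R Q r) = _
      rw [IsLocalization.Away.lift_eq]
      exact IsScalarTower.algebraMap_apply R A K r))
    have h2 := congrArg (Ideal.map ψ) htop
    rw [Ideal.map_map, hψ, Ideal.map_top] at h2
    exact (IsLocalRing.maximalIdeal.isMaximal A).ne_top
      (top_le_iff.1 (h2 ▸ ((IsLocalRing.local_hom_TFAE (algebraMap R A)).out 0 2).1 ‹_›))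

set_option maxHeartbeats 1000000 in
/-- A good chart for an algebra and a module together. -/
theorem exists_pair_both {R : Type u} [CommRing R] {Γ₀ : Type v} [LinearOrderedCommGroupWithZero Γ₀] (D : Datum R Γ₀)
    (hT : D.T = {D.f}) {P S M : Type u} [CommRing P] [Algebra R P] [Algebra.FinitePresentation R P]
    [CommRing S] [Algebra R S] [Algebra P S] [IsScalarTower R P S] (hσ : Surjective (algebraMap P S))
    [AddCommGroup M] [Module P M] [Module R M] [IsScalarTower R P M] [Module.Finite P (S × M)]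
    [Module.Flat R (Localization.Away D.f ⊗[R] (S × M))]
    (hfp : Module.FinitePresentation (Localization.Away (algebraMap R P D.f))
      (LocalizedModule (Submonoid.powers (algebraMap R P D.f)) (S × M))) :
    ∃ (L : Finset R) (b : R), b ∈ L ∧ (∀ a ∈ L, D.v a ≤ D.v b) ∧ D.v b ≠ 0 ∧
      ∀ (R₁ : Type u) [CommRing R₁] [Algebra R R₁] (a : R), algebraMap R R₁ a ∈ nonZeroDivisors R₁ →
        algebraMap R R₁ D.f ∣ algebraMap R R₁ a → (∀ z ∈ L, algebraMap R R₁ b ∣ algebraMap R R₁ z) →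
        Module.Flat R₁ ((R₁ ⊗[R] S) ⧸ FlatCA.powTorsion (R₁ ⊗[R] S) (algebraMap R (R₁ ⊗[R] S) a) (R₁ ⊗[R] S)) ∧
        Algebra.FinitePresentation R₁
          ((R₁ ⊗[R] S) ⧸ FlatCA.powTorsion (R₁ ⊗[R] S) (algebraMap R (R₁ ⊗[R] S) a) (R₁ ⊗[R] S)) ∧
        Module.Flat R₁ ((R₁ ⊗[R] M) ⧸ FlatCA.powTorsion R₁ (algebraMap R R₁ a) (R₁ ⊗[R] M)) := by
  obtain ⟨L, b, hbL, hmax, hb0, hgood⟩ := exists_pair D hT (P := P) (N := S × M) hfp
  refine ⟨L, b, hbL, hmax, hb0, ?_⟩
  intro R₁ _ _ a ha hfe hdiv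
  obtain ⟨hfl, hfpN⟩ := hgood R₁ (algebraMap R R₁ a) ha hfe hdiv (R₁ ⊗[R] P) ((R₁ ⊗[R] P) ⊗[P] (S × M))
    (TensorProduct.mk P (R₁ ⊗[R] P) (S × M) 1) (TensorProduct.isBaseChange P (S × M) (R₁ ⊗[R] P))
  haveI := hfl
  haveI := hfpN
  obtain ⟨hS₁, hS₂⟩ := algebra_part (R₁ := R₁) (P := P) (S := S) (M := M) hσ a
  exact ⟨hS₁, hS₂, module_part (R₁ := R₁) (P := P) (S := S) (M := M) a⟩

set_option maxHeartbeats 3200000 in
/-- **Flattening a module and an algebra along a valuation ring.** -/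
theorem exists_flattening (R K : Type u) [CommRing R] [IsDomain R] [IsLocalRing R] [Field K]
    [Algebra R K] [IsFractionRing R K] (S : Type u) [CommRing S] [Algebra R S] [Algebra.FiniteType R S] (M : Type u)
    [AddCommGroup M] [Module S M] [Module R M] [IsScalarTower R S M] [Module.Finite S M]
    (A : Type u) [CommRing A] [IsDomain A] [ValuationRing A] [Algebra A K] [IsFractionRing A K] [Algebra R A]
    [IsScalarTower R A K] [IsLocalHom (algebraMap R A)] (hm : IsLocalRing.maximalIdeal R ≠ ⊥) :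
    ∃ (I : Ideal R) (a : R), I.FG ∧ I ≤ IsLocalRing.maximalIdeal R ∧ a ∈ I ∧ a ≠ 0 ∧
      (∀ x ∈ I, ∃ y : A, algebraMap A K y * algebraMap R K a = algebraMap R K x) ∧
      ∀ (R₁ : Type u) [CommRing R₁] [Algebra R R₁] (_ : R₁ ≃ₐ[R] ↥(BlowUp.affineAlgebra R I a)),
        (IsLocalRing.maximalIdeal R).map (algebraMap R R₁) ≠ ⊤ ∧
        Module.Flat R₁ ((R₁ ⊗[R] S) ⧸ FlatCA.powTorsion (R₁ ⊗[R] S) (algebraMap R (R₁ ⊗[R] S) a) (R₁ ⊗[R] S)) ∧
        Algebra.FinitePresentation R₁
          ((R₁ ⊗[R] S) ⧸ FlatCA.powTorsion (R₁ ⊗[R] S) (algebraMap R (R₁ ⊗[R] S) a) (R₁ ⊗[R] S)) ∧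
        Module.Flat R₁ ((R₁ ⊗[R] M) ⧸ FlatCA.powTorsion R₁ (algebraMap R R₁ a) (R₁ ⊗[R] M)) := by
  obtain ⟨n, σ, hσ⟩ := Algebra.FiniteType.iff_quotient_mvPolynomial''.1 ‹Algebra.FiniteType R S›
  let P := MvPolynomial (Fin n) R
  letI : Algebra P S := σ.toRingHom.toAlgebra
  haveI : IsScalarTower R P S := IsScalarTower.of_algebraMap_eq fun r => (σ.commutes r).symm
  haveI : Module.Finite P S := Module.Finite.of_surjective (Algebra.linearMap P S) hσ
  letI : Module P M := Module.compHom M (algebraMap P S)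
  haveI : IsScalarTower P S M := IsScalarTower.of_algebraMap_smul fun _ _ => rfl
  haveI : IsScalarTower R P M := IsScalarTower.of_algebraMap_smul fun r m => by
    show algebraMap P S (algebraMap R P r) • m = r • m
    rw [← IsScalarTower.algebraMap_apply R P S, algebraMap_smul]
  haveI : Module.Finite P M := Module.Finite.trans S M
  obtain ⟨g, hgm, hg0⟩ := Submodule.exists_mem_ne_zero_of_ne_bot hm
  obtain ⟨f, hgf, hf0, hfree, -, -, hfp⟩ :=
    GenFree.exists_free_and_finitePresentation (R := R) P (S × M) g hg0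
  haveI := hfree
  haveI : Module.Flat (Localization.Away f) (Localization.Away f ⊗[R] (S × M)) := Module.Flat.of_free
  haveI : Module.Flat R (Localization.Away f) := IsLocalization.flat _ (Submonoid.powers f)
  haveI : Module.Flat R (Localization.Away f ⊗[R] (S × M)) := Module.Flat.trans R (Localization.Away f) _
  have hfm : f ∈ IsLocalRing.maximalIdeal R := by
    obtain ⟨c, rfl⟩ := hgf
    exact Ideal.mul_mem_right _ _ hgm
  let w := ValuationRing.valuation A K
  have hw : ∀ a : R, w (algebraMap R K a) ≤ 1 := fun a =>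
    (ValuationRing.mem_integer_iff A K _).2 ⟨algebraMap R A a, (IsScalarTower.algebraMap_apply R A K a).symm⟩
  have hw0 : ∀ a : R, a ≠ 0 → w (algebraMap R K a) ≠ 0 := fun a ha =>
    (Valuation.ne_zero_iff w).2 ((map_ne_zero_iff _ (IsFractionRing.injective R K)).2 ha)
  let D : Datum R (ValuationRing.ValueGroup A K) :=
    { v := w.comap (algebraMap R K)
      T := {f}
      f := f
      le_one := hw
      f_mem := Finset.mem_singleton_self f
      f_max := fun g hg => by rw [Finset.mem_singleton.1 hg]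
      f_ne := hw0 f hf0 }
  haveI : Module.Flat R (Localization.Away D.f ⊗[R] (S × M)) := ‹Module.Flat R (Localization.Away f ⊗[R] (S × M))›
  obtain ⟨L, b, hbL, hmax, hb0, hgood⟩ := exists_pair_both D rfl (P := P) (S := S) (M := M) hσ hfp
  have hbz : b ≠ 0 := fun h => hb0 (by rw [h, map_zero])
  let I : Ideal R := Ideal.span ((fun z => f * z) '' (L : Set R))
  suffices hI : ∀ x ∈ I, ∃ y : A, algebraMap A K y * algebraMap R K (f * b) = algebraMap R K x by
    refine ⟨I, f * b, ⟨L.image (fun z => f * z), by rw [Finset.coe_image]⟩, ?_, Ideal.subset_span ⟨b, hbL, rfl⟩,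
      mul_ne_zero hf0 hbz, hI, ?_⟩
    · refine Ideal.span_le.2 ?_
      rintro _ ⟨z, -, rfl⟩
      exact Ideal.mul_mem_right _ _ hfm
    intro R₁ _ _ ε
    obtain ⟨hm₁, he₁, hdiv⟩ := chart_part R K A f b L I (fun z hz => Ideal.subset_span ⟨z, hz, rfl⟩) hf0 hbz hI R₁ ε
    refine ⟨hm₁, ?_⟩
    exact hgood R₁ (f * b) he₁ ⟨algebraMap R R₁ b, map_mul _ _ _⟩ hdiv
  intro x hx
  have hle : w (algebraMap R K x) ≤ w (algebraMap R K (f * b)) := by
    induction hx using Submodule.span_induction with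
    | mem z hz =>
      obtain ⟨z, hz, rfl⟩ := hz
      rw [map_mul, map_mul, map_mul, map_mul]
      exact mul_le_mul' le_rfl (hmax z hz)
    | zero => rw [map_zero, map_zero]; exact zero_le'
    | add z z' _ _ hz hz' => rw [map_add]; exact w.map_add_le hz hz'
    | smul c z _ hz =>
      rw [smul_eq_mul, map_mul, map_mul]
      exact (mul_le_of_le_one_left' (hw c)).trans hz
  have hne : algebraMap R K (f * b) ≠ 0 := (map_ne_zero_iff _ (IsFractionRing.injective R K)).2 (mul_ne_zero hf0 hbz)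
  obtain ⟨y, hy⟩ := (ValuationRing.mem_integer_iff A K (algebraMap R K x / algebraMap R K (f * b))).1 (by
    show w _ ≤ 1
    rw [map_div₀]
    exact div_le_one_of_le₀ hle zero_le')
  exact ⟨y, by rw [hy, div_mul_cancel₀ _ hne]⟩

end GrothLib.FlatVal13
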